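import Cfsg.Agent.H90.RI4
import Cfsg.Agent.H13.SzPart
import Cfsg.Agent.S0102
import Cfsg.Agent.S0262

/-! Odd transpositions: the blocks `E_d`. -/

set_option autoImplicit false

namespace Cfsg.Agent.H5
open Cfsg Subgroup H90

variable {G : Type*} [Group G] {D : Set G} {a a' d e f g t w x y : G}

/-- a normal set of odd transpositions -/
structure OT (D : Set G) : Prop extends RN D where
  odd : ∀ a ∈ D, ∀ b ∈ D, a * b = b * a ∨ Od a b

/-- the members of `D` with the same commuting members as `d` -/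
def Bl (D : Set G) (d : G) : Set G := {e | e ∈ D ∧ ∀ y ∈ D, (y * e = e * y ↔ y * d = d * y)}

theorem mem_Bl_self (hd : d ∈ D) : d ∈ Bl D d := ⟨hd, fun _ _ => Iff.rfl⟩

theorem Bl_eq_same : Bl D d = sameCommutingClass D d := by
  ext e
  refine and_congr_right fun _ => ⟨fun h => Set.ext fun y => and_congr_right fun hy => (h y hy).symm, fun h y hy => ?_⟩
  have := Set.ext_iff.1 h y
  exact ⟨fun k => (this.2 ⟨hy, k⟩).2, fun k => (this.1 ⟨hy, k⟩).2⟩

theorem Bl.comm_d (hd : d ∈ D) (he : e ∈ Bl D d) : e * d = d * e := ((he.2 d hd).2 rfl).symm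

theorem Bl.comm (hd : d ∈ D) (he : e ∈ Bl D d) (hf : f ∈ Bl D d) : e * f = f * e :=
  (hf.2 e he.1).2 (Bl.comm_d hd he)

theorem conj_mem_closure_of_invol {S T : Set G} (hS : ∀ s ∈ S, s * s = 1)
    (h : ∀ s ∈ S, ∀ x ∈ T, s * x * s ∈ closure T) (hg : g ∈ closure S) : ∀ x ∈ closure T, g * x * g⁻¹ ∈ closure T := by
  have k : ∀ s ∈ S, ∀ x ∈ closure T, s * x * s⁻¹ ∈ closure T := fun s hs x hx => by
    have : closure T ≤ (closure T).comap (MulAut.conj s).toMonoidHom :=
      (closure_le _).2 fun x hx => by simpa [inv2 (hS s hs)] using h s hs x hx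
    exact this hx
  induction hg using closure_induction'' with
  | mem s hs => exact k s hs
  | inv_mem s hs => rw [inv2 (hS s hs)]; exact k s hs
  | one => simp
  | mul x y _ _ hx hy => exact fun z hz => by simpa [mul_assoc] using hx _ (hy z hz)

theorem sylow_cyclic_of_equiv {G' : Type*} [Group G'] [Finite G'] {p : ℕ} [Fact p.Prime] (e : G ≃* G')
    (h : ∀ P : Sylow p G', IsCyclic P) (P : Sylow p G) : IsCyclic P := by
  obtain ⟨R, hR⟩ := (P.isPGroup'.map e.toMonoidHom).exists_le_sylow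
  have := h R
  exact isCyclic_of_injective ((e.toMonoidHom.comp (P : Subgroup G).subtype).codRestrict (R : Subgroup G') fun x => hR ⟨x, x.2, rfl⟩)
    fun x y k => Subtype.ext (e.injective (congrArg Subtype.val k))

theorem sylow_cyclic_of_isoSuzuki [Finite G] (h : Lie.IsoSuzuki G) {p : ℕ} [Fact p.Prime] (hp : p ≠ 2)
    (P : Sylow p G) : IsCyclic P := by
  obtain ⟨F, _, _, m, hm, hF, ⟨e⟩⟩ := h
  let _ := H13.titsOfCard hF
  have Q := H13.par_of_card hm hF
  have M := (H13.lieModel (H13.titsOfCard_θ hF)).ofEquiv e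
  have key : ∀ K : Subgroup G, IsCyclic K → ¬ p ∣ K.index → IsCyclic P := by
    intro K hK hi
    obtain ⟨g, hg⟩ := H13.exists_conj_mem_of_not_dvd_index hi P.isPGroup'
    let f : P →* K :=
      { toFun := fun x => ⟨g * x * g⁻¹, hg _ x.2⟩
        map_one' := by simp
        map_mul' := fun x y => Subtype.ext (by simp) }
    exact isCyclic_of_injective f (fun x y h => by simpa [f] using h)
  have hH : Nat.card M.H = 2 ^ (2 * m + 1) - 1 := by rw [M.card_H, Q.card]
  by_cases hd : p ∣ Nat.card G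
  · obtain ⟨Ap, _, cp, Tp⟩ := M.exists_torus Q (Or.inl rfl)
    obtain ⟨Am, _, cm, Tm⟩ := M.exists_torus Q (Or.inr rfl)
    rcases M.prime_dvd_cases Q Fact.out hd with h | h | h | h
    · exact absurd h hp
    · exact key _ M.isCyclic_H (M.not_dvd_index Q (Or.inl hH) Fact.out (hH ▸ h))
    · exact key _ Tp.isCyclic (M.not_dvd_index Q (Or.inr (Or.inl Tp.card)) Fact.out (Tp.card ▸ h))
    · exact key _ Tm.isCyclic (M.not_dvd_index Q (Or.inr (Or.inr Tm.card)) Fact.out (Tm.card ▸ h))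
  · exact key ⊥ inferInstance (by rwa [Subgroup.index_bot])


theorem sylow_cyclic_of_isoL2 {q : ℕ} (h : SUZ.IsoL2 G q) {p : ℕ} [Fact p.Prime] (hp : p ≠ 2)
    (P : Sylow p G) : IsCyclic P := by
  obtain ⟨F, _, _, n, h1, -, h3, ⟨e⟩⟩ := h
  obtain ⟨f⟩ := H50.psl_equiv_sl_two (F := F) (h3 ▸ (Nat.even_pow' (by omega)).2 even_two)
  have : Fact (Nat.Prime 2) := ⟨Nat.prime_two⟩
  have := charP_of_card_eq_prime_pow h3
  exact sylow_cyclic_of_equiv (e.trans f) (S0262.result 2 p hp hp) P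

/-- a Bender group generated by commuting involutions and one further involution is not unitary -/
theorem se_gen {Ω : Type*} [MulAction G Ω] [Finite G] [IsSimpleGroup G] (h : BEND.SE G Ω) {S : Set G}
    (hd : orderOf d = 2) (ht : orderOf t = 2) (hS : ∀ s ∈ S, s * s = 1 ∧ d * s = s * d) (hn : d * t ≠ t * d)
    (hG : closure (S ∪ {t}) = ⊤) : ∃ (a : Ω) (Q : Subgroup G), d • a = a ∧ SUZ.Hyp G Ω a t Q ∧
      ((SUZ.ShapeA Q ∧ SUZ.IsoL2 G (Nat.card (SUZ.Q0 G a))) ∨ (SUZ.ShapeB a t Q ∧ Lie.IsoSuzuki G)) := by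
  obtain ⟨a, ha⟩ := h.toSE0.exists_fix hd
  obtain ⟨Q, hQ⟩ := h.suz a
  have k : ∀ {t'}, SUZ.Hyp G Ω a t' Q → ∀ s : G, s * s = 1 → s • a = a → s ∈ SUZ.Q0 G a := fun H s h1 h2 =>
    H.mem_Q0.2 ⟨H41.R1.invol_mem_Q H.setup h2 h1, h1⟩
  have hta : t • a ≠ a := fun c => by
    obtain ⟨b, hb⟩ := h.toSE0.exists_ne a
    obtain ⟨t', ht', h1, -⟩ := h.toSE0.exists_swap hb
    have H := (hQ t' ht' (by rw [h1]; exact hb.symm)).1
    exact hn (H.Q0_central (k H d (H8.mul_self_of_orderOf_two hd) ha) (H.Q0_le (k H t (H8.mul_self_of_orderOf_two ht) c)))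
  obtain ⟨H, C⟩ := hQ t ht hta
  have e : G ≃* normalClosure (Q : Set G) :=
    ((MulEquiv.subgroupCongr (SUZ.normalClosure_Q_eq_top H.setup)).trans topEquiv).symm
  refine ⟨a, Q, ha, H, ?_⟩
  rcases C.cases with ⟨c, F, _, _, n, h1, h2, h3, ⟨f⟩⟩ | ⟨c, F, _, _, m, h1, h2, ⟨f⟩⟩ | ⟨c, -⟩
  · exact Or.inl ⟨c, F, inferInstance, inferInstance, n, h1, h2, h3, ⟨e.trans f⟩⟩
  · exact Or.inr ⟨c, F, inferInstance, inferInstance, m, h1, h2, ⟨e.trans f⟩⟩
  obtain ⟨-, -, -, z, hz, hz1, -⟩ := c.cube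
  refine (hz1 (H.eq_one_of_cent_Q hz.1.1 fun x _ => comm_of_mem_closure (hG ▸ mem_top x) ?_)).elim
  rintro s (hs | rfl)
  · exact (H.mem_Wg_iff hz.1.1).1 hz s (k H s (hS s hs).1 (h.uniq.fix_of_comm hd ha (hS s hs).2))
  · exact mem_centralizer_singleton_iff.1 hz.1.2

namespace OT
variable (h : OT D)
include h

theorem cent_prod (ha : a ∈ D) (ha' : a' ∈ D) (hne : a ≠ a') (hc : a * a' = a' * a) (hx : x ∈ D)
    (e : x * (a * a') = a * a' * x) : x * a = a * x := by
  refine ((h.odd a ha x hx).resolve_right fun o => ?_).symm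
  have := h.no_mixed ha' hx (z := a * a') (g := a * x) (by simp only [mul_assoc, sw hc, c2 (h.sq a ha)])
    (by simp only [mul_assoc, sw hc, c2 (h.sq a ha), h.sq a' ha']) (by rw [mul_assoc a x, e]; simp only [mul_assoc, sw hc])
    o.2 (o.ne_one (h.sq a ha))
  exact hne (mul_left_cancel ((h.sq a ha).trans this.symm))

theorem od_Bl (he : e ∈ Bl D d) (hd : d ∈ D) (ht : t ∈ D) (o : Od d t) : Od e t :=
  (h.odd e he.1 t ht).resolve_left fun c => h.od_not_comm hd ht o ((he.2 t ht).1 c.symm).symm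

theorem line_Bl (hd : d ∈ D) (he : e ∈ D) (hl : d * e ∈ D) : e ∈ Bl D d :=
  ⟨he, fun y hy => ⟨fun c => ((h.odd d hd y hy).resolve_right fun o => h.star hd he hl hy o c.symm).symm,
    fun c => ((h.odd e he y hy).resolve_right fun o => h.star he hd (h.ln_symm hd he hl) hy o c.symm).symm⟩⟩

theorem comm_prod_iff (hd : d ∈ D) (he : e ∈ Bl D d) (hf : f ∈ Bl D d) (hne : e ≠ f) (hy : y ∈ D) :
    y * (e * f) = e * f * y ↔ y * d = d * y :=
  ⟨fun c => (he.2 y hy).1 (h.cent_prod he.1 hf.1 hne (Bl.comm hd he hf) hy c), fun c => by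
    rw [← mul_assoc, (he.2 y hy).2 c, mul_assoc, (hf.2 y hy).2 c, mul_assoc]⟩

theorem conj_Bl (hd : d ∈ D) (he : e ∈ Bl D d) (hf : f ∈ Bl D d) (hne : e ≠ f) (hg : g * (e * f) = e * f * g)
    (hx : x ∈ Bl D d) : g * x * g⁻¹ ∈ Bl D d := by
  refine ⟨h.nm x hx.1 g, fun y hy => ?_⟩
  have hy' : g⁻¹ * y * g ∈ D := by simpa using h.nm y hy g⁻¹
  have k : ∀ z, (y * (g * z * g⁻¹) = g * z * g⁻¹ * y ↔ g⁻¹ * y * g * z = z * (g⁻¹ * y * g)) := fun z =>
    ⟨fun c => by simpa [mul_assoc] using comm_conj c g⁻¹, fun c => by simpa [mul_assoc] using comm_conj c g⟩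
  rw [k, hx.2 _ hy', ← h.comm_prod_iff hd he hf hne hy', ← k, hg, mul_inv_cancel_right,
    h.comm_prod_iff hd he hf hne hy]

theorem sq_prod (hd : d ∈ D) (he : e ∈ Bl D d) (hf : f ∈ Bl D d) : e * f * (e * f) = 1 := by
  simp only [mul_assoc, sw (Bl.comm hd hf he), c2 (h.sq e he.1), h.sq f hf.1]

variable [Finite G] (hO : pCore 2 G = ⊥) (hd : d ∈ D) (ht : t ∈ D) (o : Od d t)
  (hG : closure (Bl D d ∪ {t}) = ⊤)
include hO hd ht o hG

omit h [Finite G] hd in
theorem eq_one_of_cent {v : G} (hv : v * v = 1) (h1 : ∀ e ∈ Bl D d, v * e = e * v) (h2 : v * t = t * v) : v = 1 := by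
  have hc : ∀ g : G, v * g = g * v := fun g => comm_of_mem_closure (hG ▸ mem_top g) (by
    rintro s (hs | rfl); exacts [h1 s hs, h2])
  refine mem_bot.1 (hO ▸ H22.le_pCore (N := zpowers v) ⟨?_⟩ ?_ (mem_zpowers v))
  · rintro _ ⟨k, rfl⟩ g
    rw [((show Commute v g from hc g).zpow_left k).symm.eq, mul_inv_cancel_right]
    exact ⟨k, rfl⟩
  · rintro ⟨_, k, rfl⟩
    exact ⟨1, Subtype.ext (by change (v ^ k) ^ 2 = 1; rw [pow_two, ← (Commute.refl v).mul_zpow, hv, one_zpow])⟩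

/-- no product of two members of the block maps `t` to a commuting element -/
theorem od_conj (he : e ∈ Bl D d) (hf : f ∈ Bl D d) (hne : e ≠ f) : Od t (e * f * t * (e * f)) := by
  let B : Set G := {w | (∃ e ∈ Bl D d, ∃ f ∈ Bl D d, w = e * f) ∧ t * (w * t * w) = w * t * w * t}
  have b2 : ∀ w ∈ B, w * w = 1 := by rintro _ ⟨⟨e, he, f, hf, rfl⟩, -⟩; exact h.sq_prod hd he hf
  have bD : ∀ w ∈ B, w * t * w ∈ D := fun w hw => by simpa [inv2 (b2 w hw)] using h.nm t ht w
  have bc : ∀ w ∈ B, ∀ y ∈ Bl D d, y * w = w * y := by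
    rintro _ ⟨⟨e, he, f, hf, rfl⟩, -⟩ y hy
    rw [← mul_assoc, Bl.comm hd hy he, mul_assoc, Bl.comm hd hy hf, mul_assoc]
  have t2 := h.sq t ht
  have bx : ∀ w ∈ B, w * t * w * t * w = w * (w * t * w * t) := fun w hw => by
    have := congrArg (fun z => w * z) hw.2
    simpa only [mul_assoc] using this
  have bx2 : ∀ w ∈ B, w * t * w * t * (w * t * w * t) = 1 := fun w hw => by
    rw [← hw.2]; nth_rewrite 1 [hw.2]; simp only [mul_assoc, c2 t2, c2 (b2 w hw), b2 w hw]
  have bn : ∀ w ∈ B, ∀ y ∈ Bl D d, w * t * w * t * y * (w * t * w * t) ∈ Bl D d := fun w hw y hy => by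
    by_cases h1 : w = 1
    · simpa [h1, t2] using hy
    obtain ⟨⟨e, he, f, hf, rfl⟩, -⟩ := id hw
    have := h.conj_Bl hd he hf (by rintro rfl; exact h1 (h.sq e he.1)) (bx _ hw) hy
    rwa [inv2 (bx2 _ hw)] at this
  let T : Set G := B ∪ (fun w => w * t * w * t) '' B
  have hN : (closure T).Normal := ⟨fun m hm g => conj_mem_closure_of_invol (S := Bl D d ∪ {t})
    (by rintro s (hs | rfl); exacts [h.sq s hs.1, t2]) ?_ (hG ▸ mem_top g) m hm⟩
  swap
  · rintro s (hs | rfl) x (hx | ⟨w, hw, rfl⟩)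
    · rw [bc x hx s hs, mul_assoc, h.sq s hs.1, mul_one]; exact subset_closure (Or.inl hx)
    · have h1 := bx2 w hw
      have h3 := bn w hw s hs
      have h4 : w * t * w * t ∈ closure T := subset_closure (Or.inr ⟨w, hw, rfl⟩)
      have h5 : w * t * w ≠ t ∨ w * t * w * t = 1 := by
        by_cases c : w * t * w = t
        · exact Or.inr (by rw [c, t2])
        · exact Or.inl c
      have h6 := bD w hw
      have h7 := hw.2
      beta_reduce
      rcases h5 with h5 | h5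
      swap
      · rw [h5, mul_one, h.sq s hs.1]; exact one_mem _
      have h8 : ∀ z ∈ D, z * (w * t * w * t) = w * t * w * t * z → t * z = z * t := fun z hz c =>
        (h.cent_prod ht h6 h5.symm h7 hz (by rw [h7, c])).symm
      have h10 : t * (w * t * w * t) = w * t * w * t * t := by rw [← mul_assoc, h7]
      generalize w * t * w * t = x at *
      have h9 := Bl.comm hd h3 hs
      have s2 := h.sq s hs.1
      have c1 : x * (x * s * x * s) = x * s * x * s * x := by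
        have := congrArg (fun z => z * x) h9
        simp only [mul_assoc, c2 h1, h1, mul_one] at this ⊢
        exact this.symm
      have u2 := h.sq_prod hd h3 hs
      have : x * s * x * s ∈ B := ⟨⟨_, h3, s, hs, rfl⟩, h8 _ (by simpa [inv2 u2] using h.nm t ht (x * s * x * s)) ?_⟩
      · simpa only [mul_assoc, c2 h1] using mul_mem h4 (subset_closure (Or.inl this))
      · generalize x * s * x * s = u at *
        simp only [mul_assoc, sw c1.symm, c1.symm, sw h10]
    · have : s * x * s = x * (x * s * x * s) := by simp only [mul_assoc, c2 (b2 x hx)]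
      rw [this]; exact mul_mem (subset_closure (Or.inl hx)) (subset_closure (Or.inr ⟨x, hx, rfl⟩))
    · have : s * (w * s * w * s) * s = w * s * w * s := by rw [mul_assoc, mul_assoc _ s s, t2, mul_one, hw.2]
      beta_reduce
      rw [this]; exact subset_closure (Or.inr ⟨w, hw, rfl⟩)
  have hW : ((closure (Bl D d)).subgroupOf (closure T)).Normal := ⟨fun x hx m => by
    refine conj_mem_closure_of_invol (S := T) ?_ ?_ m.2 x hx
    · rintro s (hs | ⟨w, hw, rfl⟩); exacts [b2 s hs, bx2 w hw]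
    · rintro s (hs | ⟨w, hw, rfl⟩) y hy
      · rw [← bc s hs y hy, mul_assoc, b2 s hs, mul_one]; exact subset_closure hy
      · exact subset_closure (bn w hw y hy)⟩
  have h2 : IsPGroup 2 (closure (Bl D d)) := isPGroup_closure_of (fun y hy => h.sq y hy.1)
    (fun g hg y hy => by
      rw [← comm_of_mem_closure hg fun s hs => Bl.comm hd hy hs, mul_inv_cancel_right]; exact hy)
    fun a ha b hb => by rw [mul_assoc (a * b), h.sq_prod hd ha hb, one_mul]
  have h3 := H22.le_pCore hW (h2.comap_subtype (K := closure T))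
  rw [H22.pCore_of_normal, hO] at h3
  refine (h.odd t ht _ (by simpa [inv2 (h.sq_prod hd he hf)] using h.nm t ht (e * f))).resolve_left fun c => hne ?_
  have h4 : e * f ∈ B := ⟨⟨e, he, f, hf, rfl⟩, c⟩
  have h5 : e * f = 1 := h3 (x := ⟨e * f, subset_closure (Or.inl h4)⟩) (mul_mem (subset_closure he) (subset_closure hf))
  exact mul_left_cancel ((h.sq e he.1).trans h5.symm)

omit [Finite G] in
theorem mul_mem_of_od {c : G} (hc : c ∈ D) (hcd : c * d = d * c) (hf : f ∈ Bl D d) (hne : c ≠ f)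
    (o' : Od t (c * f * t * (c * f))) : c * f ∈ D := by
  have c1 : c * f = f * c := (hf.2 c hc).2 hcd
  have u2 : c * f * (c * f) = 1 := by simp only [mul_assoc, sw c1.symm, c2 (h.sq c hc), h.sq f hf.1]
  obtain ⟨s, hs, -, h2, h3, -⟩ := h.swap_inv ht u2 o'
  have h4 := (hf.2 s hs).1 (h.cent_prod hf.1 hc hne.symm c1.symm hs (by rw [← c1, h2]))
  have := eq_one_of_cent hO ht o hG (v := s * (c * f)) (by
    generalize c * f = u at *; simp only [mul_assoc, sw h2, c2 (h.sq s hs), u2]) (fun y hy => by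
    simp only [mul_assoc, Bl.comm hd hf hy, sw ((hy.2 c hc).2 hcd), sw ((hy.2 s hs).2 h4)]) h3
  rwa [← inv_eq_of_mul_eq_one_right this, inv2 (h.sq s hs)]

theorem mul_mem (he : e ∈ Bl D d) (hf : f ∈ Bl D d) (hne : e ≠ f) : e * f ∈ D :=
  h.mul_mem_of_od hO hd ht o hG he.1 (Bl.comm_d hd he) hf hne (h.od_conj hO hd ht o hG he hf hne)

omit [Finite G] hd in
theorem not_comm_both {c : G} (hc : c ∈ D) (hcd : c * d = d * c) : c * t ≠ t * c := fun c1 =>
  h.ne c hc (eq_one_of_cent hO ht o hG (h.sq c hc) (fun _ hy => (hy.2 c hc).2 hcd) c1)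

/-- if the block has two members, it consists of all members commuting with `d` -/
theorem mem_Bl_of_comm (hf : f ∈ Bl D d) (hne : f ≠ d) {c : G} (hc : c ∈ D) (hcd : c * d = d * c) : c ∈ Bl D d := by
  by_contra hn
  have c2' := h.sq c hc
  have k : ∀ y ∈ Bl D d, c * t * c * (y * t * y) = y * t * y * (c * t * c) := fun y hy => by
    have c1 : c * y = y * c := (hy.2 c hc).2 hcd
    have y2 := h.sq y hy.1
    have u2 : c * y * (c * y) = 1 := by simp only [mul_assoc, sw c1.symm, c2 c2', y2]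
    rcases h.odd t ht _ (by simpa [inv2 u2] using h.nm t ht (c * y)) with h1 | h1
    · have := congrArg (fun z => c * z * c) h1
      simpa only [mul_assoc, c2 c2', sw c1, c1, c2', mul_one] using this
    · have h2 := h.mul_mem_of_od hO hd ht o hG hc hcd hy (by rintro rfl; exact hn hy) h1
      have h3 := h.line_Bl hy.1 hc (c1 ▸ h2)
      exact (hn ⟨hc, fun z hz => (h3.2 z hz).trans (hy.2 z hz)⟩).elim
  have hd' := mem_Bl_self hd
  have c3 := Bl.comm hd hd' hf
  have d2 := h.sq d hd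
  have f2 := h.sq f hf.1
  have o1 : Od (d * t * d) (f * t * f) := by
    simpa [mul_assoc, inv2 d2, c2 d2, c3, sw c3, f2, c2 f2, d2] using (h.od_conj hO hd ht o hG hd' hf hne.symm).conj d
  obtain ⟨s, hs, -, h2, h3, -⟩ := h.exists_swap (h.cj t ht d hd) (h.cj t ht f hf.1) o1
  have u2 := h.sq_prod hd hd' hf
  have h4 := (h.comm_prod_iff hd hd' hf hne.symm hs).1 (h3 (d * f)
    (by rw [inv2 u2]; simp only [mul_assoc, sw c3, c2 d2])
    (by rw [inv2 u2]; simp only [mul_assoc, sw c3.symm, c2 f2, f2, mul_one])).symm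
  have h5 := comm_of_mem_pair h2 (k d hd') (k f hf)
  refine h.not_comm_both hO ht o hG (h.cj s hs c hc) ?_ ?_
  · simp only [mul_assoc, hcd, sw hcd, sw h4]
  · have := congrArg (fun z => c * z * c) h5
    simpa only [mul_assoc, c2 c2', c2', mul_one] using this.symm

theorem not_cc (hf : f ∈ Bl D d) (hne : f ≠ d) : ¬ Cc D d t := fun c => by
  have k : ∀ y, Cc D d y → y ∈ Bl D d := fun y c => by
    induction c with
    | refl => exact mem_Bl_self hd
    | tail _ e ih => exact h.mem_Bl_of_comm hO hd ht o hG hf hne e.2.1 ((ih.2 _ e.2.1).1 e.2.2.2.symm)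
  exact h.od_not_comm hd ht o (Bl.comm_d hd (k t c)).symm

/-- an odd central extension of a group with cyclic Sylow subgroups of odd order -/
theorem twoZCore_eq_bot (hf : f ∈ Bl D d) (hne : f ≠ d) (hD : closure D = ⊤)
    (hc : ∀ (p : ℕ) [Fact p.Prime], p ≠ 2 → ∀ P : Sylow p (G ⧸ twoZCore G), IsCyclic P) : twoZCore G = ⊥ := by
  have hl : (D ∩ commutingProducts D).Nonempty :=
    (line_iff h.toRI).2 ⟨f, hf.1, d, hd, h.mul_mem hO hd ht o hG hf (mem_Bl_self hd) hne⟩
  have hp := h.perfect (h.cl hd ht (h.not_cc hO hd ht o hG hf hne)) hD hl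
  have hz : twoZCore G ≤ center G := fun z hz => mem_center_iff.2 fun g => by
    have h1 : ((g * z : G) : G ⧸ pCore 2 G) = (z * g : G) := mem_center_iff.1 hz g
    exact inv_mul_eq_one.1 (mem_bot.1 (hO ▸ QuotientGroup.eq.1 h1))
  by_contra hn
  obtain ⟨p, hp1, hp2⟩ := Nat.exists_prime_and_dvd (mt (twoZCore G).card_eq_one.1 hn)
  have : Fact p.Prime := ⟨hp1⟩
  by_cases h2 : p = 2
  · subst h2
    obtain ⟨z, hz2⟩ := exists_prime_orderOf_dvd_card' 2 hp2
    refine H8.ne_one_of_orderOf_two hz2 (Subtype.ext (eq_one_of_cent hO ht o hG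
      (congrArg Subtype.val (H8.mul_self_of_orderOf_two hz2)) (fun e _ => ?_) ?_)) <;>
    exact (mem_center_iff.1 (hz z.2) _).symm
  · refine S0102.result ?_ (hc p h2) (QuotientGroup.mk' (twoZCore G)) (QuotientGroup.mk'_surjective _)
      (by rwa [QuotientGroup.ker_mk']) hp (by rwa [QuotientGroup.ker_mk'])
    rw [commutator_def, ← map_top_of_surjective _ (QuotientGroup.mk'_surjective (twoZCore G)), ← map_commutator,
      ← commutator_def, hp]

/-- the group generated by a block with two members and an opposite element -/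
theorem bender (hf : f ∈ Bl D d) (hne : f ≠ d) (hD : closure D = ⊤) :
    (∃ q, SUZ.IsoL2 G q) ∨ Lie.IsoSuzuki G := by
  have hl : (D ∩ commutingProducts D).Nonempty :=
    (line_iff h.toRI).2 ⟨f, hf.1, d, hd, h.mul_mem hO hd ht o hG hf (mem_Bl_self hd) hne⟩
  have hn := h.not_cc hO hd ht o hG hf hne
  have hcl := h.cl hd ht hn
  obtain ⟨H, hH⟩ := h.toRI.bender hD hl hd ht hn
  have := h.simple hcl hD hl
  have h2 : ∀ y ∈ D, orderOf (y : G ⧸ twoZCore G) = 2 := fun y hy =>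
    H8.orderOf_two_of (by rw [← QuotientGroup.mk_mul, h.sq y hy]; rfl) (h.not_mem_twoZCore hcl hD hl hy)
  obtain ⟨a, Q, -, -, hc⟩ := se_gen hH (S := QuotientGroup.mk' (twoZCore G) '' Bl D d) (h2 d hd) (h2 t ht)
    (by
      rintro _ ⟨s, hs, rfl⟩
      exact ⟨H8.mul_self_of_orderOf_two (h2 s hs.1), congrArg (QuotientGroup.mk' _) (Bl.comm_d hd hs).symm⟩)
    (fun c => h.not_od_of_comm hd ht c o)
    (by simpa [Set.image_insert_eq] using closure_map_top hG (QuotientGroup.mk'_surjective (twoZCore G)))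
  have hz := h.twoZCore_eq_bot hO hd ht o hG hf hne hD fun p _ hp P => by
    rcases hc with ⟨-, c⟩ | ⟨-, c⟩
    exacts [sylow_cyclic_of_isoL2 c hp P, sylow_cyclic_of_isoSuzuki c hp P]
  have e : G ≃* G ⧸ twoZCore G := ((QuotientGroup.quotientMulEquivOfEq hz).trans QuotientGroup.quotientBot).symm
  rcases hc with ⟨-, F, _, _, n, h1, h2, h3, ⟨f⟩⟩ | ⟨-, F, _, _, m, h1, h2, ⟨f⟩⟩
  · exact Or.inl ⟨_, F, inferInstance, inferInstance, n, h1, h2, h3, ⟨e.trans f⟩⟩
  · exact Or.inr ⟨F, inferInstance, inferInstance, m, h1, h2, ⟨e.trans f⟩⟩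

end OT

theorem OT.map {G' : Type*} [Group G'] (h : OT D) {π : G →* G'} (hs : Function.Surjective π)
    (hπ : ∀ d ∈ D, π d ≠ 1) : OT (π '' D) := by
  refine ⟨⟨h.toRI.map π hπ, ?_⟩, ?_⟩
  · rintro _ ⟨d, hd, rfl⟩ g
    obtain ⟨g, rfl⟩ := hs g
    exact ⟨_, h.nm d hd g, by simp⟩
  · rintro _ ⟨a, ha, rfl⟩ _ ⟨b, hb, rfl⟩
    by_cases e : π a = π b
    · exact Or.inl (by rw [e])
    rcases h.odd a ha b hb with c | ⟨-, m, c⟩
    · exact Or.inl (by rw [← map_mul, c, map_mul])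
    · exact Or.inr ⟨e, m, by rw [← map_mul, ← map_pow, c, map_one]⟩

theorem OT.comm_of_map {G' : Type*} [Group G'] (h : OT D) {π : G →* G'} (hk : IsPGroup 2 π.ker) (ha : a ∈ D)
    (hb : y ∈ D) (c : π a * π y = π y * π a) : a * y = y * a :=
  (h.odd a ha y hb).resolve_right (not_od_of_two hk (h.sq a ha) (by
    simp only [MonoidHom.mem_ker, map_mul, mul_assoc, sw c.symm]
    rw [← map_mul, h.sq y hb, map_one, mul_one, ← map_mul, h.sq a ha, map_one]))

/-- the members of `D` in `X` having an opposite partner in `X` -/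
def Res (D : Set G) (X : Subgroup G) : Set X := {y | (y : G) ∈ D ∧ ∃ z : X, (z : G) ∈ D ∧ Od (y : G) z}

theorem od_coe {X : Subgroup G} {a b : X} : Od (a : G) b ↔ Od a b :=
  and_congr Subtype.coe_ne_coe ⟨fun ⟨m, h⟩ => ⟨m, Subtype.ext h⟩, fun ⟨m, h⟩ => ⟨m, congrArg Subtype.val h⟩⟩

theorem OT.res (h : OT D) (X : Subgroup G) : OT (Res D X) := by
  have k : ∀ d ∈ Res D X, ∀ g : X, g * d * g⁻¹ ∈ Res D X := fun d ⟨hd, z, hz, o⟩ g =>
    ⟨h.nm _ hd g, g * z * g⁻¹, h.nm _ hz g, o.conj g⟩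
  have k2 : ∀ a ∈ Res D X, ∀ b ∈ Res D X, a * b = b * a ∨ Od a b := fun a ha b hb =>
    (h.odd _ ha.1 _ hb.1).imp Subtype.ext od_coe.1
  have k3 : ∀ d ∈ Res D X, d * d = 1 := fun d hd => Subtype.ext (h.sq _ hd.1)
  exact ⟨⟨⟨k3, fun d hd e => h.ne _ hd.1 (congrArg Subtype.val e), fun d hd e he => by
    simpa [inv2 (k3 e he)] using k d hd e, fun a ha b hb => (k2 a ha b hb).imp_right fun o => Or.inl o.2⟩, k⟩, k2⟩

theorem OT.res_ne_one [Finite G] (h : OT D) {X : Subgroup G} {y : X} (hy : y ∈ Res D X) :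
    QuotientGroup.mk' (pCore 2 X) y ≠ 1 := fun e => by
  obtain ⟨hd, z, hz, o⟩ := hy
  have h1 : y ∈ pCore 2 X := (QuotientGroup.eq_one_iff _).1 e
  have z2 : z * z = 1 := Subtype.ext (h.sq _ hz)
  exact not_od_of_two H22.isPGroup_pCore (Subtype.ext (h.sq _ hd)) (by
    simpa [mul_assoc, inv2 z2] using (pCore 2 X).mul_mem h1 ((inferInstance : (pCore 2 X).Normal).conj_mem y h1 z)) (od_coe.1 o)

theorem ot_of (h : IsOddTranspositionSet D) : OT D :=
  ⟨(ri_of h.1).rn h.1.generates, fun a ha b hb => ((ri_of h.1).tri ha hb).imp_right fun c =>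
    c.resolve_right fun c => h.2 a ha b hb (((ri_of h.1).fo_iff ha hb).2 c)⟩

end Cfsg.Agent.H5
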